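import Mathlib

set_option autoImplicit false

/-!
# Groups in which every non-cyclic subgroup contains its centralizer (S3921)

`SC G` is the hypothesis of S3921.  This file has the definition and the three
formal consequences used everywhere: `SC` passes to subgroups, is invariant under
isomorphism, and inside the centralizer of an element `t` every subgroup that misses `t`
is cyclic.
-/

namespace Cfsg.Agent.Helper54.SCG

/-- every non-cyclic subgroup contains its centralizer -/
def SC (G : Type*) [Group G] : Prop :=
  ∀ H : Subgroup G, ¬ IsCyclic ↥H → Subgroup.centralizer (H : Set G) ≤ H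

variable {G : Type*} [Group G]

/-- a subgroup of the centralizer of `t` that does not contain `t` is cyclic -/
theorem cyc_of_le_centralizer (h : SC G) (t : G) (H : Subgroup G)
    (hH : H ≤ Subgroup.centralizer ({t} : Set G)) (ht : t ∉ H) : IsCyclic ↥H := by
  by_contra hc
  apply ht
  apply h H hc
  rw [Subgroup.mem_centralizer_iff]
  intro x hx
  have := hH hx
  rw [Subgroup.mem_centralizer_singleton_iff] at this
  exact this

/-- in a group with `SC`, a central element lies in every non-cyclic subgroup -/
theorem mem_of_central (h : SC G) (t : G) (htz : ∀ g : G, g * t = t * g) (H : Subgroup G)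
    (hH : ¬ IsCyclic ↥H) : t ∈ H := by
  apply h H hH
  rw [Subgroup.mem_centralizer_iff]
  intro x _
  exact htz x

/-- `SC` is invariant under isomorphism -/
theorem sc_of_mulEquiv {G' : Type*} [Group G'] (e : G ≃* G') (h : SC G) : SC G' := by
  intro H hH x hx
  have hcyc : ¬ IsCyclic ↥(H.comap e.toMonoidHom) := by
    intro hc
    apply hH
    exact isCyclic_of_surjective (e.toMonoidHom.subgroupComap H)
      (e.toMonoidHom.subgroupComap_surjective_of_surjective H e.surjective)
  have hx' : e.symm x ∈ Subgroup.centralizer ((H.comap e.toMonoidHom : Subgroup G) : Set G) := by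
    rw [Subgroup.mem_centralizer_iff]
    intro y hy
    have hy' : e y ∈ H := hy
    have := (Subgroup.mem_centralizer_iff.mp hx) (e y) hy'
    apply e.injective
    rw [map_mul, map_mul, e.apply_symm_apply]
    exact this
  have := h _ hcyc hx'
  have h2 : e (e.symm x) ∈ H := this
  rwa [e.apply_symm_apply] at h2

/-- `SC` passes to subgroups -/
theorem sc_subgroup (h : SC G) (K : Subgroup G) : SC ↥K := by
  intro H hH x hx
  have hcyc : ¬ IsCyclic ↥(H.map K.subtype) := by
    intro hc
    apply hH
    have e' : ↥H ≃* ↥(H.map K.subtype) := H.equivMapOfInjective K.subtype K.subtype_injective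
    exact isCyclic_of_surjective e'.symm e'.symm.surjective
  have hx' : (x : G) ∈ Subgroup.centralizer ((H.map K.subtype : Subgroup G) : Set G) := by
    rw [Subgroup.mem_centralizer_iff]
    intro y hy
    obtain ⟨y', hy', rfl⟩ := hy
    have := (Subgroup.mem_centralizer_iff.mp hx) y' hy'
    have h2 := congrArg (K.subtype) this
    simpa using h2
  have := h _ hcyc hx'
  obtain ⟨z, hz, hzx⟩ := this
  have : z = x := K.subtype_injective hzx
  rwa [← this]

end Cfsg.Agent.Helper54.SCG
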