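import Mathlib
import Cfsg.Prelude.Def_CaseTheorems
import Cfsg.Agent.Helper54.SCG.Defs

set_option autoImplicit false

/-! # S3921: the tiny leaves (ZI) (TP) (QI) (RG) -/

namespace Cfsg.Agent.Helper54.SCG

/-- (QI) transport of `IsQuasiDihedral` along an isomorphism. -/
theorem QI_isQuasiDihedral_of_mulEquiv {S S' : Type*} [Group S] [Group S'] (e : S ≃* S')
    (h : Cfsg.IsQuasiDihedral S) : Cfsg.IsQuasiDihedral S' := by
  obtain ⟨n, hn, hcard, x, y, hx, hy, hxy⟩ := h
  refine ⟨n, hn, ?_, e x, e y, ?_, ?_, ?_⟩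
  · rw [← Nat.card_congr e.toEquiv]; exact hcard
  · rw [MulEquiv.orderOf_eq]; exact hx
  · rw [MulEquiv.orderOf_eq]; exact hy
  · rw [← map_inv, ← map_mul, ← map_mul, hxy, map_pow]

/-- (ZI) a nontrivial finite 2-group has a central involution. -/
theorem ZI_exists_central_involution {S : Type*} [Group S] [Finite S] (hS : IsPGroup 2 S)
    (hnt : Nontrivial S) : ∃ t : S, orderOf t = 2 ∧ ∀ s : S, s * t = t * s := by
  haveI : Fact (Nat.Prime 2) := ⟨Nat.prime_two⟩
  haveI := hnt
  haveI : Nontrivial ↥(Subgroup.center S) := hS.center_nontrivial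
  have hcard : 2 ∣ Nat.card ↥(Subgroup.center S) := by
    have hZ : IsPGroup 2 ↥(Subgroup.center S) := hS.to_subgroup _
    obtain ⟨k, hk⟩ := hZ.exists_card_eq
    have hk0 : k ≠ 0 := by
      rintro rfl
      rw [pow_zero] at hk
      have : Subsingleton ↥(Subgroup.center S) := (Nat.card_eq_one_iff_unique.mp hk).1
      exact not_subsingleton _ this
    rw [hk]
    exact dvd_pow_self 2 hk0
  obtain ⟨z, hz⟩ := exists_prime_orderOf_dvd_card' 2 hcard
  refine ⟨(z : S), ?_, ?_⟩
  · rw [Subgroup.orderOf_coe]; exact hz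
  · intro s
    have := z.2
    rw [Subgroup.mem_center_iff] at this
    exact this s

/-- (TP) transport of the `p`-group property of a centralizer. -/
theorem TP_isPGroup_centralizer_of_mulEquiv {G G' : Type*} [Group G] [Group G'] (e : G ≃* G')
    (p : ℕ) (t : G) (h : IsPGroup p ↥(Subgroup.centralizer ({t} : Set G))) :
    IsPGroup p ↥(Subgroup.centralizer ({e t} : Set G')) := by
  intro y
  have hy : e.symm (y : G') ∈ Subgroup.centralizer ({t} : Set G) := by
    rw [Subgroup.mem_centralizer_singleton_iff]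
    have := y.2
    rw [Subgroup.mem_centralizer_singleton_iff] at this
    apply e.injective
    rw [map_mul, map_mul, e.apply_symm_apply]
    exact this
  obtain ⟨k, hk⟩ := h ⟨e.symm (y : G'), hy⟩
  refine ⟨k, ?_⟩
  apply Subtype.ext
  have h2 := congrArg (fun z : ↥(Subgroup.centralizer ({t} : Set G)) => e (z : G)) hk
  simp only [Subgroup.coe_pow, map_pow, e.apply_symm_apply, Subgroup.coe_one, map_one] at h2
  simpa using h2

/-- (RG) -/
theorem RG_eq_of_card {X : Type*} [Group X] (H K : Subgroup X) [Finite ↥K] (hHK : H ≤ K)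
    (hH : ¬ IsCyclic ↥H) (q : ℕ) (hK : Nat.card ↥K ∣ q) (hq : q = 4 ∨ q = 9 ∨ q.Prime) :
    H = K := by
  haveI : Finite ↥H := Finite.of_injective (Subgroup.inclusion hHK) (Subgroup.inclusion_injective hHK)
  have hHd : Nat.card ↥H ∣ Nat.card ↥K := Subgroup.card_dvd_of_le hHK
  have hne1 : Nat.card ↥H ≠ 1 := by
    intro h1
    apply hH
    haveI : Subsingleton ↥H := (Nat.card_eq_one_iff_unique.mp h1).1
    infer_instance
  have hnp : ¬ (Nat.card ↥H).Prime := by
    intro hp
    apply hH
    haveI : Fact (Nat.card ↥H).Prime := ⟨hp⟩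
    exact isCyclic_of_prime_card rfl
  have hcard : Nat.card ↥H = Nat.card ↥K := by
    have hHq : Nat.card ↥H ∣ q := hHd.trans hK
    have hq0 : q ≠ 0 := by
      rcases hq with rfl | rfl | hp
      · norm_num
      · norm_num
      · exact hp.ne_zero
    have hKq : Nat.card ↥K ≤ q := Nat.le_of_dvd (Nat.pos_of_ne_zero hq0) hK
    have hHK' : Nat.card ↥H ≤ Nat.card ↥K := Nat.le_of_dvd Nat.card_pos hHd
    suffices hs : Nat.card ↥H = q by omega
    rcases hq with rfl | rfl | hp
    · have : Nat.card ↥H ∈ Nat.divisors 4 := Nat.mem_divisors.mpr ⟨hHq, by norm_num⟩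
      have hdiv : Nat.divisors 4 = {1, 2, 4} := by decide
      rw [hdiv] at this
      simp only [Finset.mem_insert, Finset.mem_singleton] at this
      rcases this with h | h | h
      · exact absurd h hne1
      · exact absurd (h ▸ Nat.prime_two) hnp
      · exact h
    · have : Nat.card ↥H ∈ Nat.divisors 9 := Nat.mem_divisors.mpr ⟨hHq, by norm_num⟩
      have hdiv : Nat.divisors 9 = {1, 3, 9} := by decide
      rw [hdiv] at this
      simp only [Finset.mem_insert, Finset.mem_singleton] at this
      rcases this with h | h | h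
      · exact absurd h hne1
      · exact absurd (h ▸ Nat.prime_three) hnp
      · exact h
    · rcases (Nat.dvd_prime hp).mp hHq with h | h
      · exact absurd h hne1
      · exact h
  exact Subgroup.eq_of_le_of_card_ge hHK hcard.ge

end Cfsg.Agent.Helper54.SCG
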