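import Mathlib
import Cfsg.Prelude.Def_CaseTheorems
import Cfsg.Agent.Helper54.SCG.Defs
import Cfsg.Agent.Helper54.SCG.Small
import Cfsg.Agent.Helper63.SCG_NC
import Cfsg.Agent.Helper65.SCG_ST
import Cfsg.Agent.Helper55.SCG_QD
import Cfsg.Agent.Helper47.SCG_K4
import Cfsg.Agent.Helper30.SCG_IC
import Cfsg.Agent.Helper64.SCG_NT
import Cfsg.Agent.Helper75.SCG_NQ
import Cfsg.Agent.Helper75.SCG_DH
import Cfsg.Agent.Helper64.SCG_CT
import Cfsg.Agent.Helper10.SCG_OD
import Cfsg.Agent.Helper65.SCG_RFCore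
import Cfsg.Agent.Helper30.SCG_NTC
import Cfsg.Agent.Helper29.SCG_RC
import Cfsg.Agent.Helper55.SCG_RD
import Cfsg.Agent.Helper84.SCG_RE

set_option autoImplicit false

/-!
# S3921: simple groups in which every non-cyclic subgroup contains its centralizer

Assembly of the pieces of the farm `SCG` (board #14142); the paper proof is in
`tools/helper54_scg/Skel.lean.txt`.
-/

namespace Cfsg.Agent.Helper54.SCG

/-- the dihedral endgame: from `G ≃* PSL₂(F)` and a 2-group involution centralizer to the list -/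
theorem FW_finish {G : Type*} [Group G] [Finite G] [IsSimpleGroup G] (S : Sylow 2 G)
    (n : ℕ) (hn : 2 ≤ n) (hS : Nonempty (↥(S : Subgroup G) ≃* DihedralGroup n)) (t : G)
    (ht : orderOf t = 2) (htS : t ∈ (S : Subgroup G))
    (htZ : ∀ s ∈ (S : Subgroup G), s * t = t * s)
    (hC : IsPGroup 2 ↥(Subgroup.centralizer ({t} : Set G))) :
    ∃ (F : Type) (_ : Field F) (_ : Fintype F),
      (Fintype.card F = 4 ∨ Fintype.card F = 9 ∨ ((Fintype.card F).Prime ∧
        ∃ k : ℕ, Fintype.card F = 2 ^ k + 1 ∨ Fintype.card F = 2 ^ k - 1)) ∧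
      Nonempty (G ≃* Matrix.ProjectiveSpecialLinearGroup (Fin 2) F) := by
  obtain ⟨F, iF, iT, hodd, ⟨e⟩⟩ :=
    Cfsg.Agent.Helper75.SCG.DH_psl2_of_dihedral S n hn hS t ht htS htZ hC
  refine ⟨F, iF, iT, ?_, ⟨e⟩⟩
  have hx : orderOf (e t) = 2 := by rw [MulEquiv.orderOf_eq]; exact ht
  have hCx := TP_isPGroup_centralizer_of_mulEquiv e 2 t hC
  obtain ⟨h1, h3⟩ :=
    Cfsg.Agent.Helper30.SCG.IC_two_pow_of_isPGroup_centralizer hodd (e t) hx hCx
  have hpp : IsPrimePow (Fintype.card F) := Fintype.isPrimePow_card_of_field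
  rcases Cfsg.Agent.Helper64.SCG.NT_prime_or_nine (Fintype.card F) hpp hodd h1 h3 with h9 | hp
  · exact Or.inr (Or.inl h9)
  · exact Or.inr (Or.inr hp)

/-- (FW) the forward direction -/
theorem FW_forward {G : Type*} [Group G] [Finite G] [IsSimpleGroup G] (hna : ¬ IsMulCommutative G)
    (hsc : SC G) :
    ∃ (F : Type) (_ : Field F) (_ : Fintype F),
      (Fintype.card F = 4 ∨ Fintype.card F = 9 ∨ ((Fintype.card F).Prime ∧
        ∃ k : ℕ, Fintype.card F = 2 ^ k + 1 ∨ Fintype.card F = 2 ^ k - 1)) ∧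
      Nonempty (G ≃* Matrix.ProjectiveSpecialLinearGroup (Fin 2) F) := by
  classical
  have h2 : 2 ∣ Nat.card G := Cfsg.Agent.Helper10.SCG.OD_even_card hna hsc
  have hmin : (Nat.card G).minFac = 2 := (Nat.minFac_eq_two_iff _).mpr h2
  have : Fact (Nat.Prime 2) := ⟨Nat.prime_two⟩
  obtain ⟨S⟩ : Nonempty (Sylow 2 G) := inferInstance
  have hnc := Cfsg.Agent.Helper63.SCG.NC_not_cyclic_sylow hna 2 hmin S
  have hscS : SC ↥(S : Subgroup G) := sc_subgroup hsc _
  have hS2 : IsPGroup 2 ↥(S : Subgroup G) := S.isPGroup'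
  have hnt : Nontrivial ↥(S : Subgroup G) := by
    by_contra hn
    rw [not_nontrivial_iff_subsingleton] at hn
    exact hnc inferInstance
  obtain ⟨t', ht', htz'⟩ := ZI_exists_central_involution hS2 hnt
  have ht : orderOf (t' : G) = 2 := by rw [Subgroup.orderOf_coe]; exact ht'
  have htS : (t' : G) ∈ (S : Subgroup G) := t'.2
  have htZ : ∀ s ∈ (S : Subgroup G), s * (t' : G) = (t' : G) * s := by
    intro s hs
    have := htz' ⟨s, hs⟩
    exact congrArg Subtype.val this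
  rcases Cfsg.Agent.Helper65.SCG.ST_sylow_type hS2 hscS with hc | ⟨n, hq⟩ | hd | hqd | h4
  · exact absurd hc hnc
  · exact (Cfsg.Agent.Helper75.SCG.NQ_not_quaternion_sylow hna S n hq).elim
  · have hC := Cfsg.Agent.Helper64.SCG.CT_isPGroup_centralizer hsc S (t' : G) ht htS htZ (Or.inl hd)
    obtain ⟨n, hn4, hSn⟩ := hd
    exact FW_finish S n (by omega) hSn (t' : G) ht htS htZ hC
  · have hC := Cfsg.Agent.Helper64.SCG.CT_isPGroup_centralizer hsc S (t' : G) ht htS htZ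
      (Or.inr (Or.inl hqd))
    exact (Cfsg.Agent.Helper55.SCG.QD_not_quasidihedral hna S hqd (t' : G) ht hC).elim
  · have hC := Cfsg.Agent.Helper64.SCG.CT_isPGroup_centralizer hsc S (t' : G) ht htS htZ
      (Or.inr (Or.inr h4))
    have hSn := Cfsg.Agent.Helper47.SCG.K4_equiv_dihedral_two h4.1 h4.2
    exact FW_finish S 2 le_rfl hSn (t' : G) ht htS htZ hC

/-- (RF) the converse: `SC` holds in `PSL₂(q)` for `q` in the list -/
theorem RF_sc_psl2 {F : Type*} [Field F] [Fintype F]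
    (hq : Fintype.card F = 4 ∨ Fintype.card F = 9 ∨ ((Fintype.card F).Prime ∧
      ∃ k : ℕ, Fintype.card F = 2 ^ k + 1 ∨ Fintype.card F = 2 ^ k - 1)) :
    SC (Matrix.ProjectiveSpecialLinearGroup (Fin 2) F) :=
  Cfsg.Agent.Helper65.SCG.RF_core
    (fun q ho h => Cfsg.Agent.Helper30.SCG.NTC_two_pow q ho h)
    (fun g hd => Cfsg.Agent.Helper29.SCG.RC_isCyclic_centralizer g hd)
    (fun g hd hg => Cfsg.Agent.Helper55.SCG.RD_card_map_centralizer_dvd g hd hg)
    (fun ho h1 h3 g htr Hh hcen hH hg =>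
      Cfsg.Agent.Helper84.SCG.RE_involution_case ho h1 h3 g htr Hh hcen hH hg)
    hq

theorem main {G : Type*} [Group G] [Finite G] [IsSimpleGroup G] (hna : ¬ IsMulCommutative G) :
    (∀ H : Subgroup G, ¬ IsCyclic ↥H → Subgroup.centralizer (H : Set G) ≤ H) ↔
    ∃ (F : Type) (_ : Field F) (_ : Fintype F),
      (Fintype.card F = 4 ∨ Fintype.card F = 9 ∨ ((Fintype.card F).Prime ∧
        ∃ k : ℕ, Fintype.card F = 2 ^ k + 1 ∨ Fintype.card F = 2 ^ k - 1)) ∧
      Nonempty (G ≃* Matrix.ProjectiveSpecialLinearGroup (Fin 2) F) := by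
  constructor
  · intro h
    exact FW_forward hna h
  · rintro ⟨F, _, _, hq, ⟨e⟩⟩
    exact sc_of_mulEquiv e.symm (RF_sc_psl2 hq)

end Cfsg.Agent.Helper54.SCG
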